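import Groth.Agent.EtFound.UnibH1
import Groth.Agent.EtFound.PullGerm
import Groth.Agent.EtFound.ConstFlasque
import Groth.Agent.AcycFin.Compare
import Groth.Agent.EtLim8.HMaps
import Groth.Agent.S8537

/-!
# Finite constant coefficients in degree zero along a map bijective on clopen subsets
-/

set_option autoImplicit false
set_option linter.style.haveILetI false
set_option linter.unusedSectionVars false
set_option backward.isDefEq.respectTransparency false
set_option backward.isDefEq.respectTransparency.types false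

universe u

open CategoryTheory CategoryTheory.Limits AlgebraicGeometry Opposite Abelian

namespace Groth.Agent.H1Proper

theorem eq_univ_of_clopen {Y₀ Y : Type u} [TopologicalSpace Y₀] [TopologicalSpace Y] (j : Y₀ → Y)
    (hlift : ∀ V : Set Y₀, IsClopen V → ∃! U : Set Y, IsClopen U ∧ j ⁻¹' U = V) {C : Set Y} (hC : IsClopen C)
    (h : ∀ y, j y ∈ C) : C = Set.univ :=
  (hlift Set.univ isClopen_univ).unique ⟨hC, Set.eq_univ_of_forall h⟩ ⟨isClopen_univ, Set.preimage_univ⟩

theorem bijective_comap {Y₀ Y : Type u} [TopologicalSpace Y₀] [TopologicalSpace Y] (j : C(Y₀, Y))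
    (hlift : ∀ V : Set Y₀, IsClopen V → ∃! U : Set Y, IsClopen U ∧ j ⁻¹' U = V) (M : Type*) [Finite M] :
    Function.Bijective (LocallyConstant.comap j : LocallyConstant Y M → LocallyConstant Y₀ M) := by
  classical
  refine ⟨fun a b hab => LocallyConstant.ext fun x => ?_, fun z => ?_⟩
  · let P : LocallyConstant Y Bool :=
      ⟨fun x => decide (a x = b x), (a.isLocallyConstant.prodMk b.isLocallyConstant).comp fun p => decide (p.1 = p.2)⟩
    have := eq_univ_of_clopen (⇑j) hlift (C := P ⁻¹' {true})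
      ⟨P.isLocallyConstant.isClosed_fiber _, P.isLocallyConstant.isOpen_fiber _⟩ fun y => by
        simpa [P] using congrArg (fun f : LocallyConstant Y₀ M => f y) hab
    simpa [P] using this.ge (Set.mem_univ x)
  · choose W hW huniq using fun m : M => hlift (z ⁻¹' {m})
      ⟨z.isLocallyConstant.isClosed_fiber _, z.isLocallyConstant.isOpen_fiber _⟩
    have hdisj : ∀ x m n, x ∈ W m → x ∈ W n → m = n := by
      intro x m n hm hn
      by_contra hne
      have h0 : W m ∩ W n = ∅ :=
        (hlift ∅ isClopen_empty).unique ⟨(hW m).1.inter (hW n).1, by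
          rw [Set.preimage_inter, (hW m).2, (hW n).2]
          exact Set.disjoint_iff_inter_eq_empty.1 ((Set.disjoint_singleton.2 hne).preimage z)⟩
          ⟨isClopen_empty, Set.preimage_empty⟩
      exact h0.le ⟨hm, hn⟩
    have hcov : ∀ x, ∃ m, x ∈ W m := fun x => Set.mem_iUnion.1 <| by
      rw [eq_univ_of_clopen (⇑j) hlift (C := ⋃ m, W m) (isClopen_iUnion_of_finite fun m => (hW m).1)
        fun y => Set.mem_iUnion.2 ⟨z y, (hW (z y)).2.ge rfl⟩]
      trivial
    choose f hf using hcov
    refine ⟨⟨f, (IsLocallyConstant.iff_exists_open _).2 fun x => ⟨W (f x), (hW _).1.2, hf x,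
      fun x' hx' => hdisj x' _ _ (hf x') hx'⟩⟩, LocallyConstant.ext fun y => ?_⟩
    exact hdisj (j y) _ _ (hf (j y)) ((hW (z y)).2.ge rfl)

theorem finite_locallyConstant (T : Type u) [TopologicalSpace T] [TopologicalSpace.NoetherianSpace T] (M : Type*)
    [Finite M] : Finite (LocallyConstant T M) := by
  haveI : Finite (_root_.ConnectedComponents T) := by
    haveI : Finite (irreducibleComponents T) := TopologicalSpace.NoetherianSpace.finite_irreducibleComponents.to_subtype
    refine Finite.of_surjective (fun Z : irreducibleComponents T => _root_.ConnectedComponents.mk Z.2.1.1.choose) ?_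
    rintro ⟨x⟩
    refine ⟨⟨irreducibleComponent x, irreducibleComponent_mem_irreducibleComponents x⟩, ?_⟩
    refine _root_.ConnectedComponents.coe_eq_coe'.2 ?_
    exact (isIrreducible_irreducibleComponent.isPreirreducible.isPreconnected).subset_connectedComponent
      mem_irreducibleComponent (irreducibleComponent_mem_irreducibleComponents x).1.1.choose_spec
  haveI : Finite (_root_.ConnectedComponents T → M) := inferInstance
  refine Finite.of_injective
    (fun (f : LocallyConstant T M) (c : _root_.ConnectedComponents T) =>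
      f (_root_.ConnectedComponents.surjective_coe c).choose) fun f g hfg => LocallyConstant.ext fun x => ?_
  have h := congrFun hfg (_root_.ConnectedComponents.mk x)
  have hmem : (_root_.ConnectedComponents.surjective_coe (_root_.ConnectedComponents.mk x)).choose ∈
      connectedComponent x := _root_.ConnectedComponents.coe_eq_coe'.1
    (_root_.ConnectedComponents.surjective_coe (_root_.ConnectedComponents.mk x)).choose_spec
  exact ((f.isLocallyConstant.apply_eq_of_isPreconnected isPreconnected_connectedComponent hmem mem_connectedComponent).symm.trans h).trans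
    (g.isLocallyConstant.apply_eq_of_isPreconnected isPreconnected_connectedComponent hmem mem_connectedComponent)

open EtFound EtFound.ConstVal in
/-- Global sections of a constant sheaf are locally constant functions. -/
theorem exists_equiv_H0 (Y : Scheme.{u}) (M : Type) [AddCommGroup M] :
    Nonempty (EtCoh.H Y (EtCoh.const Y M) 0 ≃ LocallyConstant Y (ULift.{u + 1} M)) := by
  let hT := EtCore.topIsTerminal Y
  have hc := constBy_const Y (AddCommGrpCat.of (ULift.{u + 1} M)) (EtCoh.top Y)
  exact ⟨(Sheaf.H.equiv₀ (EtCoh.const Y M) hT).toEquiv.trans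
    (Equiv.ofBijective (val hT hc (V := EtCoh.top Y)) ⟨fun s t e => val_injective hT hc fun x => congrFun (congrArg DFunLike.coe e) x,
      fun f => (EtFound.UnibH1.exists_val hT hc (V := EtCoh.top Y) f).imp fun s hs => LocallyConstant.ext hs⟩)⟩

attribute [local instance] EtFound.pull_preservesFiniteLimits

open EtFound EtLim8 in
/-- A section killed by pullback is zero at the top of the source. -/
theorem unit_eq_zero_of_Hpull {Y₀ Y : Scheme.{u}} (j : Y₀ ⟶ Y) [PreservesFiniteLimits (EtCoh.pull j)] (F : EtCoh.Ab Y)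
    (x : EtCoh.H Y F 0) (hx : EtCore.Hpull j F 0 x = 0) :
    (((EtCoh.pullPushAdj j).unit.app F).hom.app (op (EtCoh.top Y))).hom
      (Sheaf.H.equiv₀ F (EtCore.topIsTerminal Y) x) = 0 := by
  let hT := EtCore.topIsTerminal Y
  let s := Sheaf.H.equiv₀ F hT x
  have h1 : res j ((EtCoh.pullPushAdj j).unit.app F) (V := EtCoh.top Y) (W := EtCoh.top Y₀) j (top_w j) s = 0 := by
    rw [← (EtCoh.pullPushAdj j).homEquiv_id F]
    refine (equiv₀_HpullThen j F (𝟙 _) x).symm.trans ?_
    rw [HpullThen_apply, Ext.comp_mk₀_id, hx, map_zero]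
  have hinv : (EtCore.bcTopIso j).inv = liftBc j (V := EtCoh.top Y) (W := EtCoh.top Y₀) j (top_w j) :=
    (EtCore.bcTopIsTerminal j).hom_ext _ _
  have hb := (ConcreteCategory.isIso_iff_bijective
    (((EtCoh.pull j).obj F).obj.map (EtCore.bcTopIso j).inv.op)).1 inferInstance
  rw [hinv] at hb
  exact hb.1 (h1.trans (map_zero _).symm)

open EtFound in
/-- Germs of a section killed by pullback vanish over the source. -/
theorem exists_germ_eq_zero_of_Hpull {Y₀ Y : Scheme.{u}} (j : Y₀ ⟶ Y) [PreservesFiniteLimits (EtCoh.pull j)]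
    (F : EtCoh.Ab Y) (x : EtCoh.H Y F 0) (hx : EtCore.Hpull j F 0 x = 0) (y : Y₀) :
    ∃ (Ω : Type u) (_ : Field Ω) (_ : IsAlgClosed Ω) (ξ : Spec (CommRingCat.of Ω) ⟶ Y)
      (z : (Scheme.pointSmallEtale ξ).fiber.obj (EtCoh.top Y)), ptOf z = j y ∧
      (Scheme.pointSmallEtale ξ).toPresheafFiber (EtCoh.top Y) z F.obj
        (Sheaf.H.equiv₀ F (EtCore.topIsTerminal Y) x) = 0 := by
  let P := (EtCoh.bc j).obj (EtCoh.top Y)
  let p : P.left := pullback.lift j (𝟙 Y₀) (by rw [Category.id_comp]; exact Category.comp_id j) y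
  obtain ⟨Ω, _, _, ξ, z, hz⟩ := exists_algClosed_point P p
  refine ⟨Ω, inferInstance, inferInstance, ξ ≫ j, bcFiberEquiv j ξ (EtCoh.top Y) z, ?_, ?_⟩
  · show ((z.left : Spec (CommRingCat.of Ω) ⟶ pullback (EtCoh.top Y).hom j) ≫ pullback.fst (EtCoh.top Y).hom j)
      (default : Spec (CommRingCat.of Ω)) = j y
    rw [Scheme.Hom.comp_apply, hz]
    show (pullback.lift j (𝟙 Y₀) _ ≫ pullback.fst (EtCoh.top Y).hom j) y = j y
    rw [pullback.lift_fst]
    rfl
  · exact ((germ_unit_eq_iff j ξ F (EtCoh.top Y) z _ 0).1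
      (congrArg _ ((unit_eq_zero_of_Hpull j F x hx).trans (map_zero _).symm))).trans (map_zero _)

open EtFound EtFound.ConstVal in
theorem φV_zero {X : Scheme.{u}} {T : X.Etale} (hT : IsTerminal T) {G : EtCoh.Ab X} {M : AddCommGrpCat.{u + 1}}
    (φ : M ⟶ G.obj.obj (op T)) (V : X.Etale) : φV hT φ V 0 = 0 := by
  unfold φV
  rw [map_zero, map_zero]

open EtFound EtFound.ConstVal in
/-- A constant section killed by pullback vanishes along the image. -/
theorem val_eq_zero_of_Hpull {Y₀ Y : Scheme.{u}} (j : Y₀ ⟶ Y) [PreservesFiniteLimits (EtCoh.pull j)] (M : Type)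
    [AddCommGroup M] (x : EtCoh.H Y (EtCoh.const Y M) 0) (hx : EtCore.Hpull j (EtCoh.const Y M) 0 x = 0) (y : Y₀) :
    val (EtCore.topIsTerminal Y) (constBy_const Y (AddCommGrpCat.of (ULift.{u + 1} M)) (EtCoh.top Y))
      (Sheaf.H.equiv₀ (EtCoh.const Y M) (EtCore.topIsTerminal Y) x) (j y) = 0 := by
  have hc := constBy_const Y (AddCommGrpCat.of (ULift.{u + 1} M)) (EtCoh.top Y)
  obtain ⟨Ω, _, _, ξ, z, hp, h3⟩ := exists_germ_eq_zero_of_Hpull j _ x hx y
  rw [UnibH1.germ_eq_val (EtCore.topIsTerminal Y) hc, hp] at h3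
  refine (germ_φV_bijective (EtCore.topIsTerminal Y) hc ξ z).1 ?_
  refine h3.trans ?_
  exact ((congrArg _ (φV_zero (EtCore.topIsTerminal Y) _ (EtCoh.top Y))).trans (map_zero _)).symm

/-- Pullback on constant sections is bijective along maps bijective on clopen subsets. -/
theorem bijective_Hpull_zero {Y₀ Y : Scheme.{u}} [TopologicalSpace.NoetherianSpace Y₀] (j : Y₀ ⟶ Y)
    [PreservesFiniteLimits (EtCoh.pull j)]
    (hlift : ∀ V : Set Y₀, IsClopen V → ∃! U : Set Y, IsClopen U ∧ j.base ⁻¹' U = V) (M : Type)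
    [AddCommGroup M] [Finite M] : Function.Bijective (EtCore.Hpull j (EtCoh.const Y M) 0) := by
  obtain ⟨e⟩ := exists_equiv_H0 Y M
  obtain ⟨e₀⟩ := exists_equiv_H0 Y₀ M
  have hb := bijective_comap ⟨j, j.continuous⟩ hlift (ULift.{u + 1} M)
  have e' : EtCoh.H Y₀ ((EtCoh.pull j).obj (EtCoh.const Y M)) 0 ≃ EtCoh.H Y₀ (EtCoh.const Y₀ M) 0 :=
    Equiv.ofBijective _ (EtAcycLib.bijective_comp_mk₀ (EtCore.pullConst j M))
  let E : EtCoh.H Y (EtCoh.const Y M) 0 ≃ EtCoh.H Y₀ ((EtCoh.pull j).obj (EtCoh.const Y M)) 0 :=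
    (e.trans (Equiv.ofBijective _ hb)).trans (e₀.symm.trans e'.symm)
  haveI := finite_locallyConstant Y₀ (ULift.{u + 1} M)
  haveI : Finite (EtCoh.H Y₀ ((EtCoh.pull j).obj (EtCoh.const Y M)) 0) := Finite.of_equiv _ (e'.trans e₀).symm
  haveI : Finite (EtCoh.H Y (EtCoh.const Y M) 0) := Finite.of_equiv _ E.symm
  have hi : Function.Injective (EtCore.Hpull j (EtCoh.const Y M) 0) := (injective_iff_map_eq_zero _).2 fun x hx => by
    let hT := EtCore.topIsTerminal Y
    have hc := EtFound.ConstVal.constBy_const Y (AddCommGrpCat.of (ULift.{u + 1} M)) (EtCoh.top Y)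
    let f := EtFound.ConstVal.val hT hc (Sheaf.H.equiv₀ (EtCoh.const Y M) hT x)
    have hf : ∀ y, f y = 0 := by
      have := eq_univ_of_clopen (⇑j) hlift (C := f ⁻¹' {0})
        ⟨f.isLocallyConstant.isClosed_fiber _, f.isLocallyConstant.isOpen_fiber _⟩
        fun y => val_eq_zero_of_Hpull j M x hx y
      exact fun y => this.ge (Set.mem_univ y)
    apply (Sheaf.H.equiv₀ (EtCoh.const Y M) hT).injective
    rw [map_zero]
    refine EtFound.ConstVal.val_injective hT hc fun y => (hf y).trans ?_
    have h0 := EtFound.UnibH1.val_sub hT hc (0 : (EtCoh.const Y M).obj.obj (op (EtCoh.top Y))) 0 y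
    rw [sub_zero, sub_self] at h0
    exact h0.symm
  exact (Nat.bijective_iff_injective_and_card _).2 ⟨hi, Nat.card_congr E⟩

end Groth.Agent.H1Proper
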