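import Groth.Agent.H1Proper.ClopenH0
import Groth.Agent.AcycFin.InjZero
import Groth.Agent.AcycFin.ConstLocal
import Groth.Agent.EtFound.FLCTorsor
import Groth.Agent.BcQCalc.CompPullback
import Groth.Agent.Graft.GenLift
import Groth.Agent.H9PiOne.HenselProper
import Groth.Agent.S0621
import Groth.Agent.S8536
import Groth.Prelude.Def_FEt

/-!
# First cohomology of a proper scheme over a henselian pair and of its closed part
-/

set_option autoImplicit false
set_option linter.style.haveILetI false
set_option linter.unusedSectionVars false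
set_option backward.isDefEq.respectTransparency false
set_option backward.isDefEq.respectTransparency.types false

universe u

open CategoryTheory CategoryTheory.Limits AlgebraicGeometry Opposite Abelian

namespace Groth.Agent.H1Proper

attribute [local instance] EtFound.pull_preservesFiniteLimits

/-- A class with constant finite coefficients dies on some surjective finite étale cover. -/
theorem exists_killing_cover {Z : Scheme.{u}} (M : Type) [AddCommGroup M] [Finite M]
    (x : EtCoh.H Z (EtCoh.const Z M) 1) :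
    ∃ V : Z.Etale, IsFinite V.hom ∧ Surjective V.hom ∧
      ∀ {P : Scheme.{u}} (p : P ⟶ Z) (a : P ⟶ V.left) (_ : a ≫ V.hom = p),
        EtCore.Hpull p (EtCoh.const Z M) 1 x = 0 := by
  obtain ⟨S, hS, φ, z, V, t, hVf, hVs, rfl, ht⟩ := EtFound.FLCTorsor.exists_cover_lift (EtCoh.const Z M)
    (EtFound.FLCTorsor.isFiniteLocallyConstant_const M) (Nat.card M) Nat.card_pos
    (EtFound.FLCTorsor.nsmul_id_const_eq_zero M) x
  refine ⟨V, hVf, hVs, fun {P} p a ha => ?_⟩
  exact EtFound.FLCTorsor.Hpull_eq_zero_of_lift p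
    ((EtCore.bcTopIso p).hom ≫ EtLim8.liftBc p (V := V) (W := EtCoh.top P) a (ha.trans (Category.id_comp p).symm))
    φ hS z t ht

/-- The base change square kills a class killed by pullback. -/
theorem comp_map_unit_eq_zero {A V W A' : Scheme.{u}} (π : A ⟶ V) [IsFinite π] (g : W ⟶ V) (π₀ : A' ⟶ W)
    (g' : A' ⟶ A) (c : IsPullback g' π₀ π g) (F : EtCoh.Ab V) (x₀ : EtCoh.H W ((EtCoh.pull g).obj F) 1)
    (hx : EtCore.Hpull π₀ ((EtCoh.pull g).obj F) 1 x₀ = 0) :
    x₀.comp (Ext.mk₀ ((EtCoh.pull g).map ((EtCoh.pullPushAdj π).unit.app F))) (add_zero 1) = 0 := by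
  haveI : IsIso (EtCoh.baseChange0 π g π₀ g' c.w ((EtCoh.pull π).obj F)) := S0621.result π g π₀ g' c _
  let γ := EtCoh.baseChange0 π g π₀ g' c.w ((EtCoh.pull π).obj F)
  let k := (EtCoh.pull g).map ((EtCoh.pullPushAdj π).unit.app F) ≫ γ
  have h1 : x₀.comp (Ext.mk₀ k) (add_zero 1) = 0 := by
    apply BcQCalc.HofPush_injective_one π₀
    rw [map_zero, ← BcQCalc.HpullThen_transpose π₀ k 1 x₀, EtLim8.HpullThen_apply]
    exact (congrArg (fun r => Ext.comp r _ (add_zero 1)) hx).trans (Ext.zero_comp _ _ _ _ _)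
  have h2 := congrArg (fun r => Ext.comp r (Ext.mk₀ (inv γ)) (add_zero 1)) h1
  simp only [k, Ext.comp_assoc_of_third_deg_zero, Ext.mk₀_comp_mk₀, Category.assoc, IsIso.hom_inv_id,
    Category.comp_id, Ext.zero_comp] at h2
  exact h2

theorem isLTorsion_pull_const {X P : Scheme.{u}} (π : P ⟶ X) (M : Type) [AddCommGroup M] [Finite M] :
    EtAcyc.IsLTorsion (Set.univ : Set ℕ) ((EtCoh.pull π).obj (EtCoh.const X M)) := by
  refine S8536.isLTorsion_of_epi Set.univ (EtCore.pullConst π M).inv ?_
  refine AcycFin.isLTorsion_const_of_primesIn P _ fun m => ⟨Nat.card M, ⟨Nat.card_pos, fun _ _ _ => Set.mem_univ _⟩, ?_⟩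
  have : Fintype M := Fintype.ofFinite M
  exact ULift.ext _ _ card_nsmul_eq_zero'

/-- Restriction to the closed fibre is bijective on first cohomology with finite constant coefficients. -/
theorem bijective_Hpull {A : Type u} [CommRing A] [HenselianLocalRing A]
    {X : Scheme.{u}} (f : X ⟶ Spec (CommRingCat.of A)) [IsProper f] (M : Type) [AddCommGroup M] [Finite M]
    [PreservesFiniteLimits (EtCoh.pull (pullback.fst f
      (Spec.map (CommRingCat.ofHom (IsLocalRing.residue A)))))] :
    Function.Bijective (EtCore.Hpull (pullback.fst f (Spec.map (CommRingCat.ofHom (IsLocalRing.residue A))))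
      (EtCoh.const X M) 1) := by
  let I := IsLocalRing.maximalIdeal A
  let s := Spec.map (CommRingCat.ofHom (IsLocalRing.residue A))
  let g := pullback.fst f s
  haveI : IsClosedImmersion s := IsClosedImmersion.spec_of_surjective _ Ideal.Quotient.mk_surjective
  haveI : IsClosedImmersion g := inferInstance
  haveI : CompactSpace X := QuasiCompact.compactSpace_of_compactSpace f
  haveI : QuasiSeparatedSpace X := quasiSeparatedSpace_of_quasiSeparated f
  -- degree zero on finite schemes
  have h0 : ∀ (Y' : Scheme.{u}) (p : Y' ⟶ X) [IsFinite p] [PreservesFiniteLimits (EtCoh.pull (pullback.fst p g))]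
      (n : ℕ) [NeZero n], Function.Bijective (EtCore.Hpull (pullback.fst p g) (EtCoh.const Y' (ZMod n)) 0) := by
    intro Y' p _ _ n _
    haveI : IsLocallyNoetherian (pullback p g) :=
      LocallyOfFiniteType.isLocallyNoetherian (pullback.snd p g ≫ pullback.snd f s)
    haveI : CompactSpace ↥(pullback p g) :=
      QuasiCompact.compactSpace_of_compactSpace (pullback.snd p g ≫ pullback.snd f s)
    haveI : AlgebraicGeometry.IsNoetherian (pullback p g) := { }
    refine bijective_Hpull_zero _ ?_ _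
    refine (HensCouple7.scheme_lifts_iff p g).2 ?_
    rw [show Set.range g = Set.range (pullback.fst f (Spec.map (CommRingCat.ofHom (Ideal.Quotient.mk I)))) from rfl,
      HensCouple7.range_fst_mk I f, ← Set.preimage_comp]
    exact Graft.lifts_proper_pair I (p ≫ f)
  have hcmp : ∀ F : EtCoh.Ab X, EtAcyc.IsLTorsion (Set.univ : Set ℕ) F →
      Function.Bijective (EtCore.Hpull g F 0) ∧ Function.Injective (EtCore.Hpull g F 1) := fun F hF => by
    rcases AcycFin.compare' g (L := Set.univ) (n := 0) (AcycFin.intConstSurj_of_finite g Set.univ 0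
        (fun Y' p _ l hl _ ν _ _ r hr => by
          obtain rfl := Nat.le_zero.1 hr
          haveI : NeZero (l ^ ν) := ⟨pow_ne_zero ν hl.ne_zero⟩
          exact (h0 Y' p (l ^ ν)).2))
      (fun G hG => AcycFin.injective0_torsion g (fun E m hE hm hEm =>
        AcycFin.injective0_constructible g (AcycFin.intConstInj_of_finite g Set.univ
          (fun Y' p _ l hl _ ν _ _ => by
            haveI : NeZero (l ^ ν) := ⟨pow_ne_zero ν hl.ne_zero⟩
            exact (h0 Y' p (l ^ ν)).1)) E hE m hm hEm) G hG) F hF with ⟨hb, hi⟩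
    exact ⟨hb 0 le_rfl, hi⟩
  let F := EtCoh.const X M
  have hF : EtAcyc.IsLTorsion (Set.univ : Set ℕ) F :=
    AcycFin.isLTorsion_const_of_primesIn X _ fun m => ⟨Nat.card M, ⟨Nat.card_pos, fun _ _ _ => Set.mem_univ _⟩, by
      have : Fintype M := Fintype.ofFinite M
      exact ULift.ext _ _ card_nsmul_eq_zero'⟩
  refine ⟨(hcmp F hF).2, fun x₀ => ?_⟩
  let c := EtCore.pullConst g M
  obtain ⟨V₀, hVf, hVs, hkill⟩ := exists_killing_cover M (x₀.comp (Ext.mk₀ c.hom) (add_zero 1))
  haveI : (FEt.restrict g).IsEquivalence := H9PiOne.restrict_inc_isEquivalence I f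
  let W₀ : FEt.Cat (pullback f s) := MorphismProperty.Over.mk ⊤ V₀.hom ⟨hVf, V₀.prop⟩
  let W := (FEt.restrict g).objPreimage W₀
  let e := (FEt.restrict g).objObjPreimageIso W₀
  let π := W.hom
  haveI : IsFinite π := W.prop.1
  haveI : Etale π := W.prop.2
  let π₀ := pullback.snd π g
  have ha : e.hom.left ≫ V₀.hom = π₀ := MorphismProperty.Over.w e.hom
  haveI : Surjective π := by
    have hR : IsClopen (Set.range π) := ⟨π.isClosedMap.isClosed_range, π.isOpenMap.isOpen_range⟩
    have hsub : ∀ y, g y ∈ Set.range π := fun y => by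
      obtain ⟨v, hv⟩ := hVs.surj y
      refine ⟨pullback.fst π g (e.inv.left v), ?_⟩
      rw [← Scheme.Hom.comp_apply, pullback.condition, Scheme.Hom.comp_apply]
      exact congrArg g ((Scheme.Hom.comp_apply e.inv.left π₀ v).symm.trans
        ((congrArg (fun r : V₀.left ⟶ _ => r v) (MorphismProperty.Over.w e.inv)).trans hv))
    refine ⟨fun x => ?_⟩
    by_contra hx
    obtain ⟨_, hy, y, rfl⟩ := H9PiOne.meets_inc I f (Set.range π)ᶜ hR.compl ⟨x, fun hx' => hx hx'⟩
    exact hy (hsub y)
  let η := (EtCoh.pullPushAdj π).unit.app F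
  haveI : Mono η := AcycFin.mono_unit π F
  let S : ShortComplex (EtCoh.Ab X) := ShortComplex.mk η (cokernel.π η) (cokernel.condition η)
  have hS : S.ShortExact :=
    { exact := ShortComplex.exact_of_g_is_cokernel _ (cokernelIsCokernel η)
      mono_f := inferInstanceAs (Mono η)
      epi_g := inferInstanceAs (Epi (cokernel.π η)) }
  haveI : Epi S.g := hS.epi_g
  have hQ : EtAcyc.IsLTorsion (Set.univ : Set ℕ) S.X₃ :=
    S8536.isLTorsion_of_epi Set.univ S.g (BcQCalc.isLTorsion_push π Set.univ (isLTorsion_pull_const π M))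
  have hz : x₀.comp (Ext.mk₀ ((EtCoh.pull g).map η)) (add_zero 1) = 0 := by
    refine comp_map_unit_eq_zero π g π₀ (pullback.fst π g) (IsPullback.of_hasPullback π g) F x₀ ?_
    have hx₀ : x₀ = (x₀.comp (Ext.mk₀ c.hom) (add_zero 1)).comp (Ext.mk₀ c.inv) (add_zero 1) := by
      rw [Ext.comp_assoc_of_third_deg_zero, Ext.mk₀_comp_mk₀, Iso.hom_inv_id, Ext.comp_mk₀_id]
    rw [hx₀, S8536.Hpull_comp_mk₀, hkill π₀ e.hom.left ha, Ext.zero_comp]
  obtain ⟨q₀, hq₀⟩ := Ext.covariant_sequence_exact₁ _ (hS.map_of_exact (EtCoh.pull g)) x₀ hz (rfl : 0 + 1 = 1)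
  obtain ⟨q, rfl⟩ := (hcmp S.X₃ hQ).1.2 q₀
  exact ⟨q.comp hS.extClass rfl, (S8536.Hpull_comp_extClass g hS 0 q).trans hq₀⟩

end Groth.Agent.H1Proper
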